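import Mathlib.RingTheory.Smooth.Basic
import Mathlib.RingTheory.Localization.Away.Basic
import Mathlib.RingTheory.MvPolynomial.Basic
import Mathlib.FieldTheory.Finite.Basic
import Mathlib.Algebra.Polynomial.Expand
import Mathlib.Algebra.CharP.Lemmas

/-! A rational hyperplane is tangent to the symplectic `q`-hypersurface at its polar point. -/

universe u

open Polynomial

namespace Groth.Agent.Hyp25

variable {k : Type u} [Field k] [Fintype k] {ι : Type} [Fintype ι]

local notation "q" => Fintype.card k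

/-- the form `Σ (x y^q - y x^q)` -/
def form {B : Type u} [CommRing B] (x : ι ⊕ ι → B) : B :=
  ∑ i, (x (.inl i) * x (.inr i) ^ q - x (.inr i) * x (.inl i) ^ q)

/-- the linear form attached to `c` -/
def lin {B : Type u} [CommRing B] [Algebra k B] (c : ι ⊕ ι → k) (x : ι ⊕ ι → B) : B :=
  ∑ v, algebraMap k B (c v) * x v

/-- the polar point of the hyperplane `c` -/
def polar (c : ι ⊕ ι → k) : ι ⊕ ι → k :=
  Sum.elim (fun i => -c (.inr i)) (fun i => c (.inl i))

lemma add_pow_q {B : Type u} [CommRing B] [Algebra k B] (x y : B) : (x + y) ^ q = x ^ q + y ^ q := by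
  rcases subsingleton_or_nontrivial B with h | h
  · exact Subsingleton.elim _ _
  obtain ⟨n, hp, hq⟩ := FiniteField.card k (ringChar k)
  haveI : Fact (ringChar k).Prime := ⟨hp⟩
  haveI : CharP B (ringChar k) :=
    charP_of_injective_algebraMap (FaithfulSMul.algebraMap_injective k B) _
  rw [hq, add_pow_char_pow]

lemma sum_pow_q {B : Type u} [CommRing B] [Algebra k B] {κ : Type} (s : Finset κ) (f : κ → B) :
    (∑ i ∈ s, f i) ^ q = ∑ i ∈ s, f i ^ q := by
  classical
  induction s using Finset.induction_on with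
  | empty => simp [Fintype.card_ne_zero]
  | insert a s ha ih => rw [Finset.sum_insert ha, Finset.sum_insert ha, add_pow_q (k := k), ih]

lemma algebraMap_pow_q {B : Type u} [CommRing B] [Algebra k B] (a : k) :
    algebraMap k B a ^ q = algebraMap k B a := by
  rw [← map_pow, FiniteField.pow_card]

lemma form_polar_add {B : Type u} [CommRing B] [Algebra k B] (c : ι ⊕ ι → k) (w : ι ⊕ ι → B) :
    form (k := k) (fun v => algebraMap k B (polar c v) + w v) =
      lin c w - lin c w ^ q + form (k := k) w := by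
  have hlin : lin c w ^ q = ∑ v, algebraMap k B (c v) * w v ^ q := by
    rw [lin, sum_pow_q (k := k)]
    simp only [mul_pow, algebraMap_pow_q]
  rw [hlin]
  simp only [form, lin, add_pow_q (k := k), algebraMap_pow_q, Fintype.sum_sum_type, polar,
    Sum.elim_inl, Sum.elim_inr, ← Finset.sum_add_distrib, ← Finset.sum_sub_distrib]
  refine Finset.sum_congr rfl fun i _ => ?_
  simp only [map_neg]
  ring

lemma lin_polar (c : ι ⊕ ι → k) : lin c (polar c) = 0 := by
  simp only [lin, polar, Fintype.sum_sum_type, Sum.elim_inl, Sum.elim_inr,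
    Algebra.algebraMap_self, RingHom.id_apply, ← Finset.sum_add_distrib]
  exact Finset.sum_eq_zero fun i _ => by ring

lemma lin_add {B : Type u} [CommRing B] [Algebra k B] (c : ι ⊕ ι → k) (x y : ι ⊕ ι → B) :
    lin c (fun v => x v + y v) = lin c x + lin c y := by
  simp only [lin, mul_add, Finset.sum_add_distrib]

lemma form_mul {B : Type u} [CommRing B] (e : B) (x : ι ⊕ ι → B) :
    form (k := k) (fun v => e * x v) = e ^ (q + 1) * form (k := k) x := by
  simp only [form, Finset.mul_sum, pow_succ]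
  exact Finset.sum_congr rfl fun i _ => by ring

lemma form_map {B C : Type u} [CommRing B] [CommRing C] (f : B →+* C) (x : ι ⊕ ι → B) :
    f (form (k := k) x) = form (k := k) (fun v => f (x v)) := by
  simp [form]

lemma lin_map {B C : Type u} [CommRing B] [CommRing C] [Algebra k B] [Algebra k C]
    (f : B →ₐ[k] C) (c : ι ⊕ ι → k) (x : ι ⊕ ι → B) :
    f (lin c x) = lin c (fun v => f (x v)) := by
  simp [lin]

/-- there is a tangent direction in the hyperplane off the cone -/
lemma exists_direction [Nontrivial ι] (c : ι ⊕ ι → k) (hc : c ≠ 0) :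
    ∃ v : ι ⊕ ι → k[X], lin c v = 0 ∧ form (k := k) v ≠ 0 := by
  classical
  obtain ⟨l, hl⟩ : ∃ l, c (.inl l) ≠ 0 ∨ c (.inr l) ≠ 0 := by
    by_contra h
    push Not at h
    exact hc (funext fun v => by rcases v with v | v <;> simp [(h v).1, (h v).2])
  obtain ⟨i, hil⟩ := exists_ne l
  obtain ⟨α, β, hαβ⟩ : ∃ α β : k, c (.inl l) * α + c (.inr l) * β = 1 := by
    rcases hl with h | h
    · exact ⟨(c (.inl l))⁻¹, 0, by rw [mul_inv_cancel₀ h, mul_zero, add_zero]⟩
    · exact ⟨0, (c (.inr l))⁻¹, by rw [mul_inv_cancel₀ h, mul_zero, zero_add]⟩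
  -- `u = e_{x_i} - a_i e`, `u' = e_{y_i} - b_i e`
  let u : ι ⊕ ι → k := Sum.elim
    (fun j => (if j = i then 1 else 0) + (if j = l then -c (.inl i) * α else 0))
    (fun j => if j = l then -c (.inl i) * β else 0)
  let u' : ι ⊕ ι → k := Sum.elim
    (fun j => if j = l then -c (.inr i) * α else 0)
    (fun j => (if j = i then 1 else 0) + (if j = l then -c (.inr i) * β else 0))
  have hu : lin c u = 0 := by
    simp only [lin, Fintype.sum_sum_type, u, Sum.elim_inl, Sum.elim_inr, Algebra.algebraMap_self,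
      RingHom.id_apply, mul_add, mul_ite, mul_one, mul_zero, Finset.sum_add_distrib,
      Finset.sum_ite_eq', Finset.mem_univ, if_true]
    linear_combination (-c (.inl i)) * hαβ
  have hu' : lin c u' = 0 := by
    simp only [lin, Fintype.sum_sum_type, u', Sum.elim_inl, Sum.elim_inr, Algebra.algebraMap_self,
      RingHom.id_apply, mul_add, mul_ite, mul_one, mul_zero, Finset.sum_add_distrib,
      Finset.sum_ite_eq', Finset.mem_univ, if_true]
    linear_combination (-c (.inr i)) * hαβ
  have hB : ∑ j, (u (.inl j) * u' (.inr j) - u (.inr j) * u' (.inl j)) = 1 := by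
    rw [Finset.sum_eq_single i]
    · simp [u, u', hil]
    · intro j _ hj
      by_cases h : j = l
      · subst h
        simp [u, u', hj]
        ring
      · simp [u, u', hj, h]
    · simp
  refine ⟨fun v => C (u v) * X + C (u' v), ?_, ?_⟩
  · have h1 := congrArg (C (R := k)) hu
    have h2 := congrArg (C (R := k)) hu'
    simp only [lin, Algebra.algebraMap_self, RingHom.id_apply, map_sum, map_mul, map_zero] at h1 h2
    simp only [lin, Polynomial.algebraMap_eq, mul_add, Finset.sum_add_distrib, ← mul_assoc,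
      ← Finset.sum_mul, h1, h2, zero_mul, add_zero]
  · have hform : form (k := k) (fun v => C (u v) * X + C (u' v)) = (X - X ^ q) * C (1 : k) := by
      rw [← hB, map_sum, Finset.mul_sum]
      simp only [form, add_pow_q (k := k), mul_pow, ← Polynomial.C_pow, FiniteField.pow_card,
        map_sub, map_mul]
      exact Finset.sum_congr rfl fun j _ => by ring
    rw [hform, map_one, mul_one]
    intro h
    have := congrArg (fun p => p.coeff 1) h
    simp [coeff_X_pow, Fintype.one_lt_card.ne] at this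

/-- no lift of the first order deformation to order `q + 2` -/
lemma not_formallySmooth [Nontrivial ι] (c : ι ⊕ ι → k) (hc : c ≠ 0)
    (w : ι ⊕ ι) (hw : polar c w ≠ 0) (I : Ideal (MvPolynomial (ι ⊕ ι) k))
    (hI : I = Ideal.span {form (k := k) MvPolynomial.X, lin c MvPolynomial.X}) :
    ¬ Algebra.FormallySmooth k (Localization.Away (Ideal.Quotient.mk I (MvPolynomial.X w))) := by
  intro hsm
  classical
  obtain ⟨v, hv0, hv1⟩ := exists_direction c hc
  set A := Localization.Away (Ideal.Quotient.mk I (MvPolynomial.X w)) with hA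
  let f₂ : k[X][X] := X ^ 2
  let f' : k[X][X] := X ^ (q + 2)
  have hq : 2 ≤ q := Fintype.one_lt_card
  let π : k[X][X] →ₐ[k] AdjoinRoot f₂ := (AdjoinRoot.mkₐ f₂).restrictScalars k
  have hπmk : ∀ z, π z = AdjoinRoot.mk f₂ z := fun _ => rfl
  have hπ : π X ^ 2 = 0 := by
    rw [← map_pow]
    exact AdjoinRoot.mk_self
  -- the first order point
  let x₁ : ι ⊕ ι → AdjoinRoot f₂ :=
    fun j => algebraMap k (AdjoinRoot f₂) (polar c j) + π (C (v j) * X)
  have hlin1 : lin c (fun j => π (C (v j) * X)) = 0 := by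
    rw [← lin_map π c]
    have : lin c (fun j => C (v j) * (X : k[X][X])) = C (lin c v) * X := by
      simp only [lin, map_sum, map_mul, Finset.sum_mul]
      exact Finset.sum_congr rfl fun j _ => by rw [mul_assoc]; rfl
    rw [this, hv0, map_zero, zero_mul, map_zero]
  have hL1 : lin c x₁ = 0 := by
    rw [lin_add, hlin1, add_zero]
    have := congrArg (algebraMap k (AdjoinRoot f₂)) (lin_polar c)
    rw [map_zero] at this
    rw [← this]
    simp [lin]
  have hF1 : form (k := k) x₁ = 0 := by
    rw [form_polar_add, hlin1, zero_pow Fintype.card_ne_zero, sub_self, zero_add]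
    have : (fun j => π (C (v j) * X)) = fun j => π X * π (C (v j)) := by
      funext j; rw [map_mul, mul_comm]
    rw [this, form_mul]
    rw [show q + 1 = 2 + (q - 1) by omega, pow_add, hπ, zero_mul, zero_mul]
  let g₀ : MvPolynomial (ι ⊕ ι) k →ₐ[k] AdjoinRoot f₂ := MvPolynomial.aeval x₁
  have hg₀ : ∀ a ∈ I, g₀ a = 0 := by
    intro a ha
    have hle : I ≤ RingHom.ker g₀ := by
      rw [hI, Ideal.span_le]
      rintro p (rfl | rfl)
      · show g₀.toRingHom _ = 0
        rw [form_map]
        simpa [g₀] using hF1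
      · show g₀ _ = 0
        rw [lin_map]
        simpa [g₀] using hL1
    exact hle ha
  let g₁ : MvPolynomial (ι ⊕ ι) k ⧸ I →ₐ[k] AdjoinRoot f₂ := Ideal.Quotient.liftₐ I g₀ hg₀
  have hunit : IsUnit (g₁ (Ideal.Quotient.mk I (MvPolynomial.X w))) := by
    have h1 : g₁ (Ideal.Quotient.mk I (MvPolynomial.X w)) = x₁ w := by
      simp [g₁, g₀, Ideal.Quotient.liftₐ_apply]
    rw [h1]
    refine IsNilpotent.isUnit_add_left_of_commute ⟨2, ?_⟩
      ((isUnit_iff_ne_zero.2 hw).map (algebraMap k (AdjoinRoot f₂))) (Commute.all _ _)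
    rw [map_mul, mul_pow, hπ, mul_zero]
  let f₁ : A →ₐ[k] AdjoinRoot f₂ := IsLocalization.Away.liftAlgHom
    (Ideal.Quotient.mk I (MvPolynomial.X w)) (f := g₁) hunit
  -- lift
  let σ : AdjoinRoot f' →ₐ[k] AdjoinRoot f₂ :=
    (AdjoinRoot.liftAlgHom f' (Algebra.ofId k[X] (AdjoinRoot f₂)) (AdjoinRoot.root f₂) (by
      show eval₂ (AdjoinRoot.of f₂) (AdjoinRoot.root f₂) f' = 0
      rw [eval₂_X_pow, pow_add, ← AdjoinRoot.mk_X, ← map_pow, ← map_pow, ← map_mul,
        AdjoinRoot.mk_eq_zero]
      exact dvd_mul_left _ _)).restrictScalars k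
  have hσmk : ∀ z, σ (AdjoinRoot.mk f' z) = AdjoinRoot.mk f₂ z := by
    intro z
    simp only [σ, AlgHom.restrictScalars_apply, AdjoinRoot.liftAlgHom_mk]
    exact (AdjoinRoot.aeval_eq z)
  have hσ : Function.Surjective σ := fun y => by
    obtain ⟨z, rfl⟩ := AdjoinRoot.mk_surjective y
    exact ⟨_, hσmk z⟩
  have hnil : IsNilpotent (RingHom.ker σ) := by
    refine ⟨q + 2, le_bot_iff.1 ?_⟩
    have hker : RingHom.ker σ ≤ Ideal.span {AdjoinRoot.mk f' X} := by
      intro x hx
      obtain ⟨a, rfl⟩ := AdjoinRoot.mk_surjective x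
      rw [RingHom.mem_ker, hσmk, AdjoinRoot.mk_eq_zero] at hx
      obtain ⟨b, rfl⟩ := hx
      rw [show f₂ * b = (X * b) * X by simp only [f₂]; ring, map_mul]
      exact Ideal.mem_span_singleton'.2 ⟨_, rfl⟩
    refine (Ideal.pow_right_mono hker _).trans ?_
    rw [Ideal.span_singleton_pow, ← map_pow, Ideal.span_singleton_eq_bot.2 AdjoinRoot.mk_self]
  let ψ : A →ₐ[k] AdjoinRoot f' := Algebra.FormallySmooth.liftOfSurjective f₁ σ hσ hnil
  let xA : MvPolynomial (ι ⊕ ι) k →ₐ[k] A :=
    (IsScalarTower.toAlgHom k (MvPolynomial (ι ⊕ ι) k ⧸ I) A).comp (Ideal.Quotient.mkₐ k I)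
  have hy : ∀ j, ∃ r : k[X][X], ψ (xA (MvPolynomial.X j)) =
      algebraMap k _ (polar c j) + AdjoinRoot.mk f' X * AdjoinRoot.mk f' (C (v j) + X * r) := by
    intro j
    obtain ⟨a, ha⟩ := AdjoinRoot.mk_surjective (ψ (xA (MvPolynomial.X j)))
    have h1 : σ (ψ (xA (MvPolynomial.X j))) = x₁ j := by
      rw [Algebra.FormallySmooth.liftOfSurjective_apply]
      simp [f₁, xA, g₁, g₀, Ideal.Quotient.liftₐ_apply]
    rw [← ha] at h1
    have h2 : f₂ ∣ a - (C (C (polar c j)) + C (v j) * X) := by
      rw [← AdjoinRoot.mk_eq_mk, map_add, ← hσmk]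
      exact h1
    obtain ⟨r, hr⟩ := h2
    refine ⟨r, ?_⟩
    rw [← ha, IsScalarTower.algebraMap_apply k k[X] (AdjoinRoot f'), AdjoinRoot.algebraMap_eq,
      ← AdjoinRoot.mk_C, ← map_mul, ← map_add]
    congr 1
    simp only [Polynomial.algebraMap_eq, f₂] at hr ⊢
    linear_combination hr
  choose r hr using hy
  set w' : ι ⊕ ι → AdjoinRoot f' :=
    fun j => AdjoinRoot.mk f' X * AdjoinRoot.mk f' (C (v j) + X * r j) with hw'
  have hcomp : ∀ p : MvPolynomial (ι ⊕ ι) k, p ∈ I → ψ (xA p) = 0 := by
    intro p hp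
    have : xA p = 0 := by
      simp [xA, Ideal.Quotient.eq_zero_iff_mem.2 hp]
    rw [this, map_zero]
  have hL' : lin c w' = 0 := by
    have h1 := hcomp (lin c MvPolynomial.X) (by rw [hI]; exact Ideal.subset_span (by simp))
    rw [lin_map, lin_map] at h1
    simp only [hr] at h1
    rw [lin_add] at h1
    have h2 : lin c (fun j => algebraMap k (AdjoinRoot f') (polar c j)) = 0 := by
      have := congrArg (algebraMap k (AdjoinRoot f')) (lin_polar c)
      rw [map_zero] at this
      rw [← this]
      simp [lin]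
    rwa [h2, zero_add] at h1
  have hF' : form (k := k) w' = 0 := by
    have h1 := hcomp (form (k := k) MvPolynomial.X) (by rw [hI]; exact Ideal.subset_span (by simp))
    change ψ.toRingHom (xA.toRingHom _) = 0 at h1
    rw [form_map, form_map] at h1
    simp only [AlgHom.toRingHom_eq_coe, RingHom.coe_coe, hr] at h1
    rw [form_polar_add, hL', zero_pow Fintype.card_ne_zero, sub_self, zero_add] at h1
    exact h1
  rw [hw', form_mul] at hF'
  rw [← form_map, ← map_pow, ← map_mul, AdjoinRoot.mk_eq_zero, X_pow_dvd_iff] at hF'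
  have h3 := hF' (q + 1) (by omega)
  have hz : (form (k := k) (fun j => C (v j) + X * r j)).coeff 0 = form (k := k) v := by
    have := form_map (k := k) (constantCoeff (R := k[X])) (fun j => C (v j) + X * r j)
    simpa using this
  rw [coeff_X_pow_mul' _ (q + 1) (q + 1)] at h3
  simp only [le_refl, if_true, Nat.sub_self, hz] at h3
  exact hv1 h3

end Groth.Agent.Hyp25
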